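/-
Two-type (non-symmetric) S3-amalgam argument: definitions and the exact statements of the
packages.  Project S2858 / S2954 (coordinator helper41).

Setting: `P Q : Bool → Subgroup G`, `T ≤ P false ⊓ P true`, `Q i ⊴ P i`, `P i / Q i = S3`,
`G` an ARBITRARY group (only the `P i` are finite).
Vertices = cosets `g (P i)`, edges = cosets `g T`.  We reuse `cj`, `Zs`, `Cs`, `ZF`, `Loc` of
`Cfsg.Agent.Lib.Helper71.Sym` (they are one-sided notions).
-/
import Cfsg.Prelude.Def_Amalgam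
import Cfsg.Agent.Lib.Helper71.Sym.Defs

set_option autoImplicit false

namespace Cfsg.Agent.Lib.Helper41.NS

open Cfsg.Agent.Lib.Helper71.Sym

variable {G : Type*} [Group G]

/-- One-sided hypotheses: `Q ≤ T ≤ H`, `Q ⊴ H`, `|T:Q| = 2`, `|H:T| = 3`, `T` not normal in `H`,
`C_H(Q) ≤ Q`, some involution of `Z(T)` is not central in `H`. -/
structure Side (H T Q : Subgroup G) : Prop where
  fin : Finite ↥H
  hQT : Q ≤ T
  hTH : T ≤ H
  hQn : ∀ h ∈ H, ∀ q ∈ Q, h * q * h⁻¹ ∈ Q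
  hT2 : IsPGroup 2 ↥T
  hTQ : Nat.card ↥T = 2 * Nat.card ↥Q
  hHT : Nat.card ↥H = 3 * Nat.card ↥T
  hTn : ∃ h ∈ H, ∃ t ∈ T, h * t * h⁻¹ ∉ T
  hCQ : ∀ g ∈ H, (∀ q ∈ Q, g * q = q * g) → g ∈ Q
  hZ : ∃ z ∈ T, z * z = 1 ∧ (∀ t ∈ T, z * t = t * z) ∧ ∃ h ∈ H, h * z ≠ z * h

/-- The two-type amalgam hypotheses. -/
structure NSAmal (P Q : Bool → Subgroup G) (T : Subgroup G) : Prop where
  side : ∀ i, Side (P i) T (Q i)
  hcore : ∀ N : Subgroup G, N ≤ T → (∀ i, ∀ h ∈ P i, ∀ n ∈ N, h * n * h⁻¹ ∈ N) → N = ⊥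

/-- `(ND)`: `D = Q i ⊓ Q (!i)` is normal in neither `P i`. -/
def ND (P Q : Bool → Subgroup G) : Prop :=
  ∀ i, ¬ ∀ h ∈ P i, ∀ d ∈ Q i ⊓ Q (!i), h * d * h⁻¹ ∈ Q i ⊓ Q (!i)

/-- Conclusion of the two-type amalgam lemma. -/
structure NSConcl (P Q : Bool → Subgroup G) (T : Subgroup G) : Prop where
  sq : ∀ i, ∀ q ∈ Q i, q * q = 1
  prod : ∀ t ∈ T, ∃ a ∈ Q false, ∃ b ∈ Q true, t = a * b
  central : ∀ d ∈ Q false ⊓ Q true, ∀ t ∈ T, d * t = t * d
  card : Nat.card ↥(Q false ⊓ Q true) ≤ 4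
  nonsq : ∀ g ∈ T, g ∉ Q false → g ∉ Q true → g * g ≠ 1

/-- The standing local data: both sides, with `ZF` and `Loc` (`w i` = the involution of
`[Z_i, P i]` fixed by `T`). -/
structure Std (P Q : Bool → Subgroup G) (T : Subgroup G) (w : Bool → G) : Prop where
  amal : NSAmal P Q T
  zf : ∀ i, ZF (P i) T (Q i)
  loc : ∀ i, Loc (P i) T (Q i) (w i)

/-- `C_false ∩ C_true = 1`, `|C_i| ≤ 2`. -/
structure C3F (P : Bool → Subgroup G) (T : Subgroup G) : Prop where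
  inter : Cs (P false) T ⊓ Cs (P true) T = ⊥
  card : ∀ i, Nat.card ↥(Cs (P i) T) ≤ 2

/-! ### Walks -/

/-- `Wk P i n g j`: `g = h₁ h₂ ⋯ h_n` with `h₁ ∈ P (!i)`, `h₂ ∈ P i`, … (alternating), and `j` is
the type with `h_n ∈ P (!j)` (`j = !i` for `n = 0`).  Graph meaning: the walk
`P i → P (!i) → h₁ P i → h₁h₂ P (!i) → ⋯` of length `n + 1` starting with the base arc; its last
arc is `g P (!j) → g P j`. -/
inductive Wk (P : Bool → Subgroup G) (i : Bool) : ℕ → G → Bool → Prop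
  | base : Wk P i 0 1 (!i)
  | step {n : ℕ} {u : G} {j : Bool} {h : G} : Wk P i n u j → h ∈ P j → Wk P i (n + 1) (u * h) (!j)

/-- no critical pair at walk-length `n + 1`. -/
def NoCrit (P Q : Bool → Subgroup G) (T : Subgroup G) (n : ℕ) : Prop :=
  ∀ (i j : Bool) (g : G), Wk P i n g j → Zs (P i) T ≤ cj g (Q j)

/-- minimality below `n`. -/
def MinBelow (P Q : Bool → Subgroup G) (T : Subgroup G) (n : ℕ) : Prop :=
  ∀ m < n, NoCrit P Q T m

/-- a critical word (walk of length `n + 1` from type `i`, ending at the vertex `g (P j)`). -/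
def CritW (P Q : Bool → Subgroup G) (T : Subgroup G) (i : Bool) (n : ℕ) (g : G) (j : Bool) :
    Prop :=
  Wk P i n g j ∧ ¬ Zs (P i) T ≤ cj g (Q j)

/-- `n + 1` is the critical distance `b`. -/
def IsCritIdx (P Q : Bool → Subgroup G) (T : Subgroup G) (n : ℕ) : Prop :=
  (∃ (i j : Bool) (g : G), CritW P Q T i n g j) ∧ MinBelow P Q T n

/-- A critical element, word-free: `a = P i`, `a' = g (P j)`; the neighbour of `a'` on the path
is `g (P (!j))`, the neighbour of `a` on the path is `P (!i)`. -/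
structure Crit (P Q : Bool → Subgroup G) (T : Subgroup G) (i j : Bool) (g : G) : Prop where
  c1 : ¬ Zs (P i) T ≤ cj g (Q j)
  c2 : Zs (P i) T ≤ cj g (Q (!j))
  c3 : cj g (Zs (P j) T) ≤ Q (!i)

/-- Critical pair basics. -/
structure CRF (P Q : Bool → Subgroup G) (T : Subgroup G) (i j : Bool) (g : G) : Prop where
  gZ_not : ¬ cj g (Zs (P j) T) ≤ Q i
  index : Nat.card ↥(Zs (P i) T) ≤ 2 * Nat.card ↥(Zs (P i) T ⊓ cj g (Q j))
  trans : ∃ t ∈ T, t ∉ Q i ∧ t ∈ cj g (Zs (P j) T) ∧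
    ∀ y ∈ Zs (P i) T ⊓ cj g (Q j), t * y = y * t

/-- Commutators of a critical pair. -/
structure C7F (P : Bool → Subgroup G) (T : Subgroup G) (i j : Bool) (wi wj g : G) : Prop where
  comm : ∀ a ∈ Zs (P i) T, ∀ t ∈ cj g (Zs (P j) T),
    a * t * a⁻¹ * t⁻¹ = 1 ∨ a * t * a⁻¹ * t⁻¹ = wi
  cent : g * wj * g⁻¹ = wi

/-- Back slide at critical index `n + 1`. -/
def SlideBack (P Q : Bool → Subgroup G) (T : Subgroup G) (n : ℕ) : Prop :=
  ∀ (i j : Bool) (u h : G), Wk P i n u j → h ∈ P j → CritW P Q T i (n + 1) (u * h) (!j) →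
    ∀ k ∈ P i, k ∉ T → CritW P Q T (!i) (n + 1) (k * u) j

/-- Forward slide at critical index `n + 1`. -/
def SlideFwd (P Q : Bool → Subgroup G) (T : Subgroup G) (n : ℕ) : Prop :=
  ∀ (i j : Bool) (h v : G), h ∈ P (!i) → Wk P (!i) n v j → CritW P Q T i (n + 1) (h * v) j →
    ∀ p ∈ P j, p ∉ T → CritW P Q T (!i) (n + 1) (v * p) (!j)

/-! ### The package statements (each is a `Prop`; prove `theorem pkgX : PkgX.{u}`) -/

universe u

/-- Package Z (one-sided; port of helper71's PkgZ, `G` arbitrary, `H` finite). -/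
def PkgZ : Prop := ∀ {G : Type u} [Group G] (H T Q : Subgroup G), Side H T Q → ZF H T Q

/-- Package LS (one-sided local structure from a transvection). -/
def PkgLS : Prop := ∀ {G : Type u} [Group G] (H T Q : Subgroup G), Side H T Q → ZF H T Q →
  ∀ t ∈ T, t ∉ Q → ∀ Y : Subgroup G, Y ≤ Zs H T →
    Nat.card ↥(Zs H T) ≤ 2 * Nat.card ↥Y → (∀ y ∈ Y, t * y = y * t) → ∃ w : G, Loc H T Q w

/-- Package C3. -/
def PkgC3 : Prop := ∀ {G : Type u} [Group G] (P Q : Bool → Subgroup G) (T : Subgroup G)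
  (w : Bool → G), Std P Q T w → C3F P T

/-- Package EX: a critical index exists. -/
def PkgEX : Prop := ∀ {G : Type u} [Group G] (P Q : Bool → Subgroup G) (T : Subgroup G),
  NSAmal P Q T → (∀ i, ZF (P i) T (Q i)) → ∃ n, IsCritIdx P Q T n

/-- Package CR (word-free). -/
def PkgCR : Prop := ∀ {G : Type u} [Group G] (P Q : Bool → Subgroup G) (T : Subgroup G),
  NSAmal P Q T → (∀ i, ZF (P i) T (Q i)) → ∀ (i j : Bool) (g : G), Crit P Q T i j g →
    CRF P Q T i j g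

/-- Package C7 (word-free). -/
def PkgC7 : Prop := ∀ {G : Type u} [Group G] (P Q : Bool → Subgroup G) (T : Subgroup G),
  NSAmal P Q T → (∀ i, ZF (P i) T (Q i)) → ∀ (i j : Bool) (g wi wj : G),
    Loc (P i) T (Q i) wi → Loc (P j) T (Q j) wj → Crit P Q T i j g → C7F P T i j wi wj g

/-- Package SB (word-free local back slide): if `Z_l ≤ Q_{g_{b-1}}` for `l = k⁻¹ P (!i)` then
`Q i ⊓ Q (!i)` is normal in `P i`. -/
def PkgSB : Prop := ∀ {G : Type u} [Group G] (P Q : Bool → Subgroup G) (T : Subgroup G),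
  NSAmal P Q T → (∀ i, ZF (P i) T (Q i)) → ∀ (i j : Bool) (g wi wj : G),
    Loc (P i) T (Q i) wi → Loc (P j) T (Q j) wj → Crit P Q T i j g → CRF P Q T i j g →
    C7F P T i j wi wj g → ∀ k ∈ P i, k ∉ T → Zs (P (!i)) T ≤ cj (k * g) (Q (!j)) →
    ∀ h ∈ P i, ∀ d ∈ Q i ⊓ Q (!i), h * d * h⁻¹ ∈ Q i ⊓ Q (!i)

/-- Package C10 (one-sided, word-free): an involution `v` of `Z(T)` such that some `t ∈ T \ Q`
centralizes a conjugate `k v k⁻¹` (`k ∈ H \ T`) lies in `C_Z(H)`. -/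
def PkgC10 : Prop := ∀ {G : Type u} [Group G] (H T Q : Subgroup G) (w v : G), ZF H T Q →
  Loc H T Q w → v ∈ T → v * v = 1 → (∀ s ∈ T, v * s = s * v) →
  ∀ t ∈ T, t ∉ Q → ∀ k ∈ H, k ∉ T → t * (k * v * k⁻¹) = (k * v * k⁻¹) * t → v ∈ Cs H T

/-- Package B2 (word-free): `b = 2` is impossible. -/
def PkgB2 : Prop := ∀ {G : Type u} [Group G] (P Q : Bool → Subgroup G) (T : Subgroup G)
  (w : Bool → G), Std P Q T w → (∀ i, Zs (P i) T ≤ Q (!i)) →
  (∀ i, ∀ h ∈ P (!i), h ∉ T →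
    Crit P Q T i i h ∧ CRF P Q T i i h ∧ C7F P T i i (w i) (w i) h) →
  (∀ i, w (!i) ∈ Cs (P i) T) → False

/-- Package END: `b = 1`. -/
def PkgEND : Prop := ∀ {G : Type u} [Group G] (P Q : Bool → Subgroup G) (T : Subgroup G)
  (w : Bool → G), Std P Q T w → C3F P T → (∀ i, ¬ Zs (P i) T ≤ Q (!i)) → NSConcl P Q T

/-- Package SLB (word level): the back slide, from the local packages and `(ND)`. -/
def PkgSLB : Prop := PkgCR.{u} → PkgLS.{u} → PkgC7.{u} → PkgSB.{u} →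
  ∀ {G : Type u} [Group G] (P Q : Bool → Subgroup G) (T : Subgroup G),
  NSAmal P Q T → ND P Q → (∀ i, ZF (P i) T (Q i)) → ∀ n, MinBelow P Q T (n + 1) →
    SlideBack P Q T n

/-- Package SLF (word level): the forward slide, from the back slide by reversing walks. -/
def PkgSLF : Prop := PkgCR.{u} →
  ∀ {G : Type u} [Group G] (P Q : Bool → Subgroup G) (T : Subgroup G),
  NSAmal P Q T → (∀ i, ZF (P i) T (Q i)) → ∀ n, MinBelow P Q T (n + 1) →
    SlideBack P Q T n → SlideFwd P Q T n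

/-- Package CW (word level): `w (!i) ∈ C_i` for the start type of a critical word, `b ≥ 2`. -/
def PkgCW : Prop := PkgCR.{u} → PkgC7.{u} → PkgC10.{u} →
  ∀ {G : Type u} [Group G] (P Q : Bool → Subgroup G) (T : Subgroup G) (w : Bool → G),
  Std P Q T w → ∀ n, MinBelow P Q T (n + 1) → SlideBack P Q T n →
    ∀ (i j : Bool) (g : G), CritW P Q T i (n + 1) g j → w (!i) ∈ Cs (P i) T

/-- Package B3 (word level): `b ≥ 3` is impossible. -/
def PkgB3 : Prop := PkgCR.{u} → PkgC7.{u} →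
  ∀ {G : Type u} [Group G] (P Q : Bool → Subgroup G) (T : Subgroup G) (w : Bool → G),
  Std P Q T w → ∀ n, MinBelow P Q T (n + 2) → SlideBack P Q T (n + 1) →
    SlideFwd P Q T (n + 1) → (∀ i, w (!i) ∈ Cs (P i) T) →
    ∀ (i j : Bool) (g : G), CritW P Q T i (n + 2) g j → False

/-- The two-type amalgam lemma under `(ND)`. -/
def PkgNS : Prop := ∀ {G : Type u} [Group G] (P Q : Bool → Subgroup G) (T : Subgroup G),
  NSAmal P Q T → ND P Q → NSConcl P Q T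

/-! ### The frozen level (S2858) -/

/-- The hypotheses of the frozen statement S2858 (verbatim). -/
structure FrozenHyp (P₁ P₂ T : Subgroup G) : Prop where
  hgen : P₁ ⊔ P₂ = ⊤
  hT : T = P₁ ⊓ P₂
  h₁ : ∀ P ∈ ({P₁, P₂} : Set (Subgroup G)),
    P ⊓ Subgroup.centralizer (Cfsg.pCoreOf 2 P : Set G) ≤ Cfsg.pCoreOf 2 P
  h₂ : ∀ P ∈ ({P₁, P₂} : Set (Subgroup G)),
    ∃ S : Sylow 2 ↥P, (S : Subgroup ↥P) = T.subgroupOf P
  h₃ : ∀ N : Subgroup G, N.Normal → N ≤ T → N = ⊥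
  h₄ : ∀ P ∈ ({P₁, P₂} : Set (Subgroup G)),
    Nonempty (↥P ⧸ Cfsg.pCore 2 ↥P ≃* Equiv.Perm (Fin 3))
  h₅ : ∀ P ∈ ({P₁, P₂} : Set (Subgroup G)),
    ¬ P ≤ Subgroup.centralizer (Cfsg.omegaOne 2 (T ⊓ Subgroup.centralizer (T : Set G)) : Set G)

/-- The conclusion of the frozen statement S2858 (verbatim). -/
def FrozenConcl (P₁ P₂ : Subgroup G) : Prop :=
  (Nonempty (↥P₁ ≃* Equiv.Perm (Fin 4)) ∧ Nonempty (↥P₂ ≃* Equiv.Perm (Fin 4))) ∨
    (Nonempty (↥P₁ ≃* Multiplicative (ZMod 2) × Equiv.Perm (Fin 4)) ∧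
      Nonempty (↥P₂ ≃* Multiplicative (ZMod 2) × Equiv.Perm (Fin 4)))

/-- the two types of the frozen statement as a `Bool`-indexed family. -/
def PP (P₁ P₂ : Subgroup G) : Bool → Subgroup G := fun b => cond b P₂ P₁

/-- `O₂` of the two types. -/
def QQ (P₁ P₂ : Subgroup G) : Bool → Subgroup G := fun b => Cfsg.pCoreOf 2 (cond b P₂ P₁)

/-- The induction hypothesis: S2858 for all instances with `|T| < n`. -/
def IHlt (n : ℕ) : Prop := ∀ (G : Type u) [Group G] (P₁ P₂ T : Subgroup G) [Finite ↥P₁]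
  [Finite ↥P₂], FrozenHyp P₁ P₂ T → Nat.card ↥T < n → FrozenConcl P₁ P₂

/-- Package TR: translation of the frozen hypotheses. -/
def PkgTR : Prop := ∀ (G : Type u) [Group G] (P₁ P₂ T : Subgroup G) [Finite ↥P₁] [Finite ↥P₂],
  FrozenHyp P₁ P₂ T → NSAmal (PP P₁ P₂) (QQ P₁ P₂) T

/-- Package N (helper45's claim (N)): in a minimal situation `(ND)` holds. -/
def PkgN : Prop := ∀ (n : ℕ), IHlt.{u} n → ∀ (G : Type u) [Group G] (P₁ P₂ T : Subgroup G)
  [Finite ↥P₁] [Finite ↥P₂], FrozenHyp P₁ P₂ T → Nat.card ↥T = n → ND (PP P₁ P₂) (QQ P₁ P₂)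

/-- Package ID: identification with `S₄` / `C₂ × S₄`. -/
def PkgID : Prop := ∀ (G : Type u) [Group G] (P₁ P₂ T : Subgroup G) [Finite ↥P₁] [Finite ↥P₂],
  NSAmal (PP P₁ P₂) (QQ P₁ P₂) T → NSConcl (PP P₁ P₂) (QQ P₁ P₂) T → FrozenConcl P₁ P₂

/-- The statement of S2858 (all instances in universe `u`). -/
def S2858Stmt : Prop := ∀ (G : Type u) [Group G] (P₁ P₂ T : Subgroup G) [Finite ↥P₁]
  [Finite ↥P₂], FrozenHyp P₁ P₂ T → FrozenConcl P₁ P₂

end Cfsg.Agent.Lib.Helper41.NS
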