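/-
Walk basics for the two-type amalgam argument.
-/
import Cfsg.Agent.Lib.Helper41.NS.Defs

set_option autoImplicit false

namespace Cfsg.Agent.Lib.Helper41.NS

open Cfsg.Agent.Lib.Helper71.Sym

variable {G : Type*} [Group G]

theorem wk_zero {P : Bool → Subgroup G} {i j : Bool} {g : G} :
    Wk P i 0 g j ↔ g = 1 ∧ j = !i := by
  constructor
  · intro h; cases h; exact ⟨rfl, rfl⟩
  · rintro ⟨rfl, rfl⟩; exact Wk.base

/-- right decomposition -/
theorem wk_succ {P : Bool → Subgroup G} {i j : Bool} {n : ℕ} {g : G} :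
    Wk P i (n + 1) g j ↔ ∃ u, ∃ h ∈ P (!j), Wk P i n u (!j) ∧ g = u * h := by
  constructor
  · intro h
    cases h with
    | @step _ u j' h' hu hh =>
      exact ⟨u, h', by simpa using hh, by simpa using hu, rfl⟩
  · rintro ⟨u, h, hh, hu, rfl⟩
    have := Wk.step hu hh
    simpa using this

theorem wk_step' {P : Bool → Subgroup G} {i j : Bool} {n : ℕ} {u h : G}
    (hu : Wk P i n u (!j)) (hh : h ∈ P (!j)) : Wk P i (n + 1) (u * h) j :=
  wk_succ.2 ⟨u, h, hh, hu, rfl⟩

/-- prepend a letter: the walk `P (!i) → P i → k P (!i) → ⋯`. -/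
theorem wk_prepend {P : Bool → Subgroup G} {i : Bool} {n : ℕ} {g : G} {j : Bool}
    (h : Wk P i n g j) {k : G} (hk : k ∈ P i) : Wk P (!i) (n + 1) (k * g) j := by
  induction h with
  | base =>
    have h0 : Wk P (!i) 0 1 (!(!i)) := Wk.base
    have h1 := Wk.step h0 (h := k) (by simpa using hk)
    simpa using h1
  | step hu hh ih =>
    have := Wk.step ih hh
    simpa [mul_assoc] using this

/-- prepend, with the start type written as `i`. -/
theorem wk_prepend' {P : Bool → Subgroup G} {i : Bool} {n : ℕ} {g : G} {j : Bool}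
    (h : Wk P (!i) n g j) {k : G} (hk : k ∈ P (!i)) : Wk P i (n + 1) (k * g) j := by
  have := wk_prepend h hk
  simpa using this

/-- reversal of walks -/
theorem wk_inv {P : Bool → Subgroup G} {i : Bool} {n : ℕ} {g : G} {j : Bool}
    (h : Wk P i n g j) : Wk P j n g⁻¹ i := by
  induction h with
  | base =>
    have h0 : Wk P (!i) 0 1 (!(!i)) := Wk.base
    simpa using h0
  | @step n u j h hu hh ih =>
    have := wk_prepend ih ((P j).inv_mem hh)
    simpa [mul_inv_rev] using this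

/-- left decomposition -/
theorem wk_left {P : Bool → Subgroup G} {i : Bool} : ∀ {n : ℕ} {g : G} {j : Bool},
    Wk P i (n + 1) g j → ∃ h₁ ∈ P (!i), ∃ v, Wk P (!i) n v j ∧ g = h₁ * v := by
  intro n
  induction n with
  | zero =>
    intro g j h
    obtain ⟨u, h', hh, hu, rfl⟩ := wk_succ.1 h
    obtain ⟨rfl, hj⟩ := wk_zero.1 hu
    have hj' : j = !(!i) := by
      have := congrArg (fun b => !b) hj
      simpa using this
    subst hj'
    refine ⟨h', by simpa using hh, 1, Wk.base, by simp⟩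
  | succ n ih =>
    intro g j h
    obtain ⟨u, h', hh, hu, rfl⟩ := wk_succ.1 h
    obtain ⟨h₁, hh₁, v, hv, rfl⟩ := ih hu
    exact ⟨h₁, hh₁, v * h', wk_step' hv hh, by simp [mul_assoc]⟩

theorem Side.cjQ {H T Q : Subgroup G} (hS : Side H T Q) {h : G} (hh : h ∈ H) : cj h Q = Q := by
  ext a; rw [mem_cj]
  constructor
  · intro ha
    have := hS.hQn h hh _ ha
    simpa [mul_assoc] using this
  · intro ha
    have := hS.hQn h⁻¹ (H.inv_mem hh) a ha
    simpa using this

theorem cj_mul_Q {P Q : Bool → Subgroup G} {T : Subgroup G} (hA : NSAmal P Q T) {j : Bool}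
    (u : G) {h : G} (hh : h ∈ P j) : cj (u * h) (Q j) = cj u (Q j) := by
  rw [cj_mul, (hA.side j).cjQ hh]

/-- `c2` for a walk below the critical distance. -/
theorem zs_le_of_wk {P Q : Bool → Subgroup G} {T : Subgroup G} (hA : NSAmal P Q T)
    (hZF : ∀ i, ZF (P i) T (Q i)) {n : ℕ} (hmin : MinBelow P Q T n) {i j : Bool} {g : G}
    (h : Wk P i n g j) : Zs (P i) T ≤ cj g (Q (!j)) := by
  cases h with
  | base =>
    have := (hZF i).le_Q
    simpa [cj_one] using this
  | @step m u j' h' hu hh =>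
    have h1 := hmin m (Nat.lt_succ_self m) i j' u hu
    rw [Bool.not_not, cj_mul_Q hA u hh]
    exact h1

theorem crit_of_critW {P Q : Bool → Subgroup G} {T : Subgroup G} (hA : NSAmal P Q T)
    (hZF : ∀ i, ZF (P i) T (Q i)) {n : ℕ} (hmin : MinBelow P Q T n) {i j : Bool} {g : G}
    (h : CritW P Q T i n g j) : Crit P Q T i j g :=
  ⟨h.2, zs_le_of_wk hA hZF hmin h.1, (cj_le_iff g).2 (zs_le_of_wk hA hZF hmin (wk_inv h.1))⟩

theorem critW_inv {P Q : Bool → Subgroup G} {T : Subgroup G} {n : ℕ} {i j : Bool} {g : G}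
    (h : CritW P Q T i n g j) (hCR : CRF P Q T i j g) : CritW P Q T j n g⁻¹ i :=
  ⟨wk_inv h.1, fun hle => hCR.gZ_not ((cj_le_iff g).2 hle)⟩

theorem minBelow_mono {P Q : Bool → Subgroup G} {T : Subgroup G} {m n : ℕ} (hmn : m ≤ n)
    (h : MinBelow P Q T n) : MinBelow P Q T m :=
  fun k hk => h k (lt_of_lt_of_le hk hmn)

/-- elements outside `T` exist in each `P i`. -/
theorem Side.exists_not_mem {H T Q : Subgroup G} (hS : Side H T Q) : ∃ k ∈ H, k ∉ T := by
  obtain ⟨h, hh, t, ht, hn⟩ := hS.hTn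
  refine ⟨h, hh, fun hT => hn ?_⟩
  exact T.mul_mem (T.mul_mem hT ht) (T.inv_mem hT)

end Cfsg.Agent.Lib.Helper41.NS
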