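/-
Assembly of the two-type amalgam lemma from the packages, and of S2858 from it.
-/
import Cfsg.Agent.Lib.Helper41.NS.Words

set_option autoImplicit false

namespace Cfsg.Agent.Lib.Helper41.NS

open Cfsg.Agent.Lib.Helper71.Sym

universe u

theorem bool_eq_or_not (i i₀ : Bool) : i = i₀ ∨ i = !i₀ := by
  cases i <;> cases i₀ <;> simp

/-- The two-type amalgam lemma from the packages. -/
theorem ns_main (hZ : PkgZ.{u}) (hLS : PkgLS.{u}) (hC3 : PkgC3.{u}) (hEX : PkgEX.{u})
    (hCR : PkgCR.{u}) (hC7 : PkgC7.{u}) (hSB : PkgSB.{u}) (hC10 : PkgC10.{u})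
    (hB2 : PkgB2.{u}) (hEND : PkgEND.{u}) (hSLB : PkgSLB.{u}) (hSLF : PkgSLF.{u})
    (hCW : PkgCW.{u}) (hB3 : PkgB3.{u}) : PkgNS.{u} := by
  intro G _ P Q T hA hND
  have hZF : ∀ i, ZF (P i) T (Q i) := fun i => hZ _ _ _ (hA.side i)
  obtain ⟨n, ⟨i₀, j₀, g₀, hg₀⟩, hmin⟩ := hEX P Q T hA hZF
  have hLoc : ∀ {i j : Bool} {g : G}, CritW P Q T i n g j → ∃ w, Loc (P i) T (Q i) w := by
    intro i j g hg
    have hc := crit_of_critW hA hZF hmin hg
    have hcr := hCR P Q T hA hZF i j g hc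
    obtain ⟨t, htT, htQ, -, hty⟩ := hcr.trans
    exact hLS _ _ _ (hA.side i) (hZF i) t htT htQ _ inf_le_left hcr.index hty
  have hrev : ∀ {i j : Bool} {g : G}, CritW P Q T i n g j → CritW P Q T j n g⁻¹ i :=
    fun hg => critW_inv hg (hCR P Q T hA hZF _ _ _ (crit_of_critW hA hZF hmin hg))
  cases n with
  | zero =>
    obtain ⟨rfl, rfl⟩ := wk_zero.1 hg₀.1
    have h1 : ¬ Zs (P i₀) T ≤ Q (!i₀) := by simpa [cj_one] using hg₀.2
    have h2 : ¬ Zs (P (!i₀)) T ≤ Q i₀ := by simpa [cj_one] using (hrev hg₀).2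
    have hnot : ∀ i, ¬ Zs (P i) T ≤ Q (!i) := by
      intro i
      rcases bool_eq_or_not i i₀ with h | h
      · subst h; exact h1
      · subst h; simpa using h2
    have hw : ∀ i, ∃ w, Loc (P i) T (Q i) w := by
      intro i
      rcases bool_eq_or_not i i₀ with h | h
      · subst h; exact hLoc hg₀
      · subst h; exact hLoc (hrev hg₀)
    choose w hw using hw
    have hStd : Std P Q T w := ⟨hA, hZF, hw⟩
    exact hEND P Q T w hStd (hC3 P Q T w hStd) hnot
  | succ n =>
    exfalso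
    have hSB' : SlideBack P Q T n := hSLB hCR hLS hC7 hSB P Q T hA hND hZF n hmin
    have hSF' : SlideFwd P Q T n := hSLF hCR P Q T hA hZF n hmin hSB'
    have hboth : ∀ i, ∃ (j : Bool) (g : G), CritW P Q T i (n + 1) g j := by
      have h1 : ∃ (j : Bool) (g : G), CritW P Q T (!i₀) (n + 1) g j := by
        obtain ⟨u, h, hh, hu, rfl⟩ := wk_succ.1 hg₀.1
        obtain ⟨k, hk, hkT⟩ := (hA.side i₀).exists_not_mem
        have hg' : CritW P Q T i₀ (n + 1) (u * h) (!(!j₀)) := by simpa using hg₀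
        exact ⟨!j₀, k * u, hSB' i₀ (!j₀) u h hu hh hg' k hk hkT⟩
      intro i
      rcases bool_eq_or_not i i₀ with h | h
      · subst h; exact ⟨j₀, g₀, hg₀⟩
      · subst h; exact h1
    have hw : ∀ i, ∃ w, Loc (P i) T (Q i) w := fun i => by
      obtain ⟨j, g, hg⟩ := hboth i
      exact hLoc hg
    choose w hw using hw
    have hStd : Std P Q T w := ⟨hA, hZF, hw⟩
    have hC : ∀ i, w (!i) ∈ Cs (P i) T := fun i => by
      obtain ⟨j, g, hg⟩ := hboth i
      exact hCW hCR hC7 hC10 P Q T w hStd n hmin hSB' i j g hg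
    cases n with
    | zero =>
      refine hB2 P Q T w hStd ?_ ?_ hC
      · intro i
        have := hmin 0 (by omega) i (!i) 1 Wk.base
        simpa [cj_one] using this
      · intro i h hh hhT
        have hcw : CritW P Q T i 1 h i := by
          obtain ⟨j, g, hg⟩ := hboth (!i)
          obtain ⟨u, h₀, hh₀, hu, rfl⟩ := wk_succ.1 hg.1
          obtain ⟨rfl, hj⟩ := wk_zero.1 hu
          have hg' : CritW P Q T (!i) (0 + 1) (1 * h₀) (!(!j)) := by simpa using hg
          have := hSB' (!i) (!j) 1 h₀ hu hh₀ hg' h hh hhT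
          have hj' : (!j) = i := by simpa using hj
          rw [hj'] at this
          simpa using this
        have hc := crit_of_critW hA hZF hmin hcw
        exact ⟨hc, hCR P Q T hA hZF i i h hc,
          hC7 P Q T hA hZF i i h (w i) (w i) (hw i) (hw i) hc⟩
    | succ n =>
      exact hB3 hCR hC7 P Q T w hStd n hmin hSB' hSF' hC i₀ j₀ g₀ hg₀

/-- S2858 (all instances in universe `u`) from the packages, by strong induction on `|T|`. -/
theorem s2858_of (hTR : PkgTR.{u}) (hN : PkgN.{u}) (hID : PkgID.{u}) (hNS : PkgNS.{u}) :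
    S2858Stmt.{u} := by
  have key : ∀ n : ℕ, IHlt.{u} n := by
    intro n
    induction n with
    | zero => intro G _ P₁ P₂ T _ _ _ hlt; exact absurd hlt (Nat.not_lt_zero _)
    | succ n ih =>
      intro G _ P₁ P₂ T _ _ hF hlt
      rcases Nat.lt_succ_iff_lt_or_eq.1 hlt with h | h
      · exact ih G P₁ P₂ T hF h
      · have hA := hTR G P₁ P₂ T hF
        have hND := hN n ih G P₁ P₂ T hF h
        exact hID G P₁ P₂ T hA (hNS _ _ T hA hND)
  intro G _ P₁ P₂ T _ _ hF
  exact key (Nat.card ↥T + 1) G P₁ P₂ T hF (Nat.lt_succ_self _)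

end Cfsg.Agent.Lib.Helper41.NS
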